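import Mathlib
import Cfsg.Agent.Intrinsic.WOneA.Comp

/-!
Theorem I34, part [C] (`2².L₃(4)`), world W1a (commuting `He`'s): the abstract record `HeFrame`.

`D` = the involutions of pairs `(u, L u)`; `L u` = the only 2-component of the pair; `cmp x u = M_x(L_u)`, the
2-component of `C(x)` above `C_{L u}(x)^∞`, for `x` centralizing `L u` modulo core.

`Z u s` (written `u ⊥ s` in the blueprint): `s` centralizes `L u` modulo core and is not in the vessel of `u`.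
`A u v`: commuting elements of `D` which are not `Z`.
`Bg b u`: `M_b(L_u)` is big (of type `He`).
-/

set_option autoImplicit false

namespace Cfsg.Agent.UGT.I34.HeW

open Subgroup Cfsg
open Cfsg.Agent.SignalizersComponents.PLayerAut
open Cfsg.Agent.SignalizersComponents.IntrinsicBasic
open Cfsg.Agent.SignalizersComponents.RelSylow
open Cfsg.Agent.Intrinsic.WOneA (Ce OC)

section defs

variable {G : Type*} [Group G] (D : Set G) (L : G → Subgroup G) (cmp : G → G → Subgroup G)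

/-- `u ⊥ s` -/
structure PreZ (u s : G) : Prop where
  left : u ∈ D
  right : s ∈ D
  mem : s ∈ cenMod (Ce u) (L u)
  notMem : s ∉ L u

/-- commuting elements of `D` which are not orthogonal -/
structure PreA (u v : G) : Prop where
  left : u ∈ D
  right : v ∈ D
  comm : Commute u v
  nz : ¬ PreZ D L u v

/-- `M_b(L_u)` is big -/
structure PreBg (b u : G) : Prop where
  left : u ∈ D
  ord : orderOf b = 2
  mem : b ∈ cenMod (Ce u) (L u)
  big : u ∉ cenMod (Ce b) (cmp b u)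

end defs

/-- The output of sections 3 and 5 for `2².L₃(4)`. -/
structure HeFrame (G : Type*) [Group G] where
  /-- the involutions of pairs -/
  D : Set G
  /-- `L u = L_u` -/
  L : G → Subgroup G
  /-- `cmp x u = M_x(L_u)` -/
  cmp : G → G → Subgroup G
  ord : ∀ u ∈ D, orderOf u = 2
  conj : ∀ u ∈ D, ∀ g : G, g * u * g⁻¹ ∈ D
  L_conj : ∀ u ∈ D, ∀ g : G, L (g * u * g⁻¹) = cj g (L u)
  L_comp : ∀ u ∈ D, TC (Ce u) (L u)
  self_mem : ∀ u ∈ D, u ∈ L u
  /-- (5.5), first half: `⊥` is symmetric -/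
  symm : ∀ u s : G, PreZ D L u s → PreZ D L s u
  /-- (5.5): the product of an orthogonal pair is not in `D` -/
  prod : ∀ u s : G, PreZ D L u s → u * s ∉ D
  /-- (1a) -/
  perp : ∀ u v v' : G, PreZ D L u v → PreA D L v v' → Commute u v' → PreZ D L u v'
  /-- (1b) -/
  four : ∀ u ∈ D, ∀ v ∈ D, orderOf (u * v) = 4 → ¬ PreZ D L u (v * u * v⁻¹)
  cmp_comp : ∀ u ∈ D, ∀ x ∈ cenMod (Ce u) (L u), orderOf x = 2 → TC (Ce x) (cmp x u)
  cmp_self : ∀ u ∈ D, cmp u u = L u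
  cmp_conj : ∀ u ∈ D, ∀ x ∈ cenMod (Ce u) (L u), orderOf x = 2 → ∀ g : G,
    cmp (g * x * g⁻¹) (g * u * g⁻¹) = cj g (cmp x u)
  /-- 2-elements of `L u` commuting with `x` are in `M_x(L_u)` -/
  mem_cmp : ∀ u ∈ D, ∀ x ∈ cenMod (Ce u) (L u), orderOf x = 2 → ∀ a ∈ L u, ∀ n : ℕ,
    a ^ 2 ^ n = 1 → Commute a x → a ∈ cmp x u
  /-- an involution centralizing `M_x(L_u)` modulo core (and `u`) centralizes `L u` modulo core -/
  cmp_cen : ∀ u ∈ D, ∀ x ∈ cenMod (Ce u) (L u), orderOf x = 2 → ∀ c : G, orderOf c = 2 →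
    Commute c u → c ∈ cenMod (Ce x) (cmp x u) → c ∈ cenMod (Ce u) (L u)
  cmp_ne : ∀ u s x : G, PreZ D L u s → orderOf x = 2 → x ∈ cenMod (Ce u) (L u) → x ∈ cenMod (Ce s) (L s) →
    cmp x u ≠ cmp x s
  /-- (5.5): an orthogonal pair is big -/
  big_of_Z : ∀ u s : G, PreZ D L u s → PreBg D L cmp s u
  Z_of_big : ∀ b u : G, PreBg D L cmp b u → b ∈ D → PreZ D L u b
  /-- (5.4): products of commuting big involutions are big -/
  big_prod : ∀ b x u : G, PreBg D L cmp b u → PreBg D L cmp x u → Commute b x → b ≠ x →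
    PreBg D L cmp (b * x) u
  /-- `D ∩ M_b(L_u)` is one class of `M_b(L_u)` -/
  big_D : ∀ b u : G, PreBg D L cmp b u → ∀ t ∈ cmp b u, t ∈ D → ∃ g ∈ cmp b u, g * u * g⁻¹ = t
  /-- a 2-group `Q ≤ K_u` centralizes a canonical involution of `L u` -/
  exists_t : ∀ u ∈ D, ∀ Q : Subgroup G, IsPGroup 2 Q → Q ≤ cenMod (Ce u) (L u) →
    ∃ t ∈ D, t ∈ L u ∧ t ∉ cenMod (Ce u) (L u) ∧ ∀ q ∈ Q, Commute t q
  /-- `⟨A_u, A_t⟩ = He` -/
  gen : ∀ b u : G, PreBg D L cmp b u → ∀ t ∈ D, t ∈ L u → t ∉ cenMod (Ce u) (L u) → Commute t b →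
    ∀ x : G, ∀ n : ℕ, x ^ 2 ^ n = 1 → Commute x b → x ∈ cenMod (Ce u) (L u) → x ∈ cenMod (Ce t) (L t) →
    Commute x t → x ∈ cenMod (Ce b) (cmp b u)
  /-- a nontrivial involutory automorphism `x` of `M_b(L_u)` commutes with an element `r` of `D` with `x ∉ K_r` -/
  bad : ∀ b u : G, PreBg D L cmp b u → ∀ x y : G, ∀ Q : Subgroup G, IsPGroup 2 Q → x ∈ Q → y ∈ Q →
    x * x = 1 → Commute x b → Commute y b → x ∈ normalizer (cmp b u : Set G) → y ∈ cenMod (Ce b) (cmp b u) →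
    x ∉ cenMod (Ce b) (cmp b u) →
    ∃ r ∈ cmp b u, r ∈ D ∧ Commute r x ∧ Commute r y ∧ x ∉ cenMod (Ce r) (L r)
  /-- elements of `D ∩ M_b(L_u)` centralizing the 2-element `y` are conjugate in `C(y)` -/
  conjC : ∀ b u : G, PreBg D L cmp b u → ∀ y : G, ∀ n : ℕ, y ^ 2 ^ n = 1 → y ∈ cenMod (Ce b) (cmp b u) →
    ∀ s ∈ cmp b u, s ∈ D → ∀ v ∈ cmp b u, v ∈ D → Commute s y → Commute v y →
    ∃ g ∈ cmp b u, Commute g y ∧ g * v * g⁻¹ = s
  /-- `Z(He) = 1` -/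
  cen_triv : ∀ b u : G, PreBg D L cmp b u → ∀ β ∈ cmp b u, orderOf β = 2 → β ∉ cenMod (Ce b) (cmp b u)
  /-- involutions of class 2B commuting with `s` of class 2A -/
  noD : ∀ b u : G, PreBg D L cmp b u → ∀ β ∈ cmp b u, orderOf β = 2 → β ∉ D → ∀ s ∈ cmp b u, s ∈ D →
    Commute β s → β ∈ L s ∧ β ∉ cenMod (Ce s) (L s)
  /-- commuting involutions of class 2A are not orthogonal -/
  two_A : ∀ b u : G, PreBg D L cmp b u → ∀ s ∈ cmp b u, s ∈ D → ∀ t ∈ cmp b u, t ∈ D → ¬ PreZ D L s t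
  /-- Sylow 2-subgroups of `He` are generated by involutions of class 2A -/
  syl_gen : ∀ b u : G, PreBg D L cmp b u → ∀ P : Subgroup G, IsMaxP 2 (cmp b u) P →
    P ≤ closure {t : G | t ∈ P ∧ t ∈ D}
  /-- and have the same order -/
  syl_card : ∀ b u b' u' : G, PreBg D L cmp b u → PreBg D L cmp b' u' → ∀ P P' : Subgroup G,
    IsMaxP 2 (cmp b u) P → IsMaxP 2 (cmp b' u') P' → Nat.card P = Nat.card P'
  /-- the central involutions of a Sylow 2-subgroup are of class 2B -/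
  syl_Z : ∀ b u : G, PreBg D L cmp b u → ∀ P : Subgroup G, IsMaxP 2 (cmp b u) P → ∀ β ∈ P, orderOf β = 2 →
    (∀ p ∈ P, Commute p β) → β ∉ D
  /-- involutions of class 2B are central in a Sylow 2-subgroup -/
  two_B : ∀ b u : G, PreBg D L cmp b u → ∀ β ∈ cmp b u, orderOf β = 2 → β ∉ D →
    ∃ P : Subgroup G, IsMaxP 2 (cmp b u) P ∧ β ∈ P ∧ ∀ p ∈ P, Commute p β
  /-- and products of two commuting involutions of class 2A -/
  two_B_prod : ∀ b u : G, PreBg D L cmp b u → ∀ β ∈ cmp b u, orderOf β = 2 → β ∉ D →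
    ∃ y ∈ cmp b u, y ∈ D ∧ ∃ y' ∈ cmp b u, y' ∈ D ∧ Commute y y' ∧ y * y' = β
  /-- the diagonal -/
  diag : ∀ c : G, orderOf c = 2 → ∀ d : G, PreZ D L d (c * d * c⁻¹) → ∃ R, TC (Ce c) R ∧
    d * (c * d * c⁻¹) ∈ R ∧ ∀ w ∈ D, c ∈ cenMod (Ce w) (L w) → R ≠ cmp c w
  /-- an involution `β` of class 2B of `M_v(L_u)` swapping `w` and `w' ⊥ w`: `c = w w'` centralizes `M_v(L_u)` -/
  diag_B : ∀ v u : G, PreZ D L u v → ∀ β ∈ cmp v u, orderOf β = 2 → β ∉ D → ∀ w : G,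
    PreZ D L w (β * w * β⁻¹) → Commute v (w * (β * w * β⁻¹)) → w * (β * w * β⁻¹) ∈ cenMod (Ce v) (cmp v u)

namespace HeFrame

variable {G : Type*} [Group G] (F : HeFrame G)

/-- `K_u` -/
def K (u : G) : Subgroup G := cenMod (Ce u) (F.L u)

/-- `u ⊥ s` -/
abbrev Z (u s : G) : Prop := PreZ F.D F.L u s

/-- commuting elements of `D` which are not orthogonal (or equal) -/
abbrev A (u v : G) : Prop := PreA F.D F.L u v

/-- `M_b(L_u)` is big -/
abbrev Bg (b u : G) : Prop := PreBg F.D F.L F.cmp b u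

end HeFrame

end Cfsg.Agent.UGT.I34.HeW
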